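import Cfsg.Agent.H129.Co3.Gen
import Cfsg.Agent.H527.Co3.Asm

/-!
# S1920, case B: `E₆(q)` in characteristic `p ≥ 5` (helper129)
-/

set_option autoImplicit false

open Subgroup Module

universe u

namespace Cfsg.Agent.H129.Co3

open Cfsg Cfsg.Lie
open Cfsg.Agent.ChevalleyStructure.E6Min.Tables Cfsg.Agent.ChevalleyStructure.E6Min.Basic
  Cfsg.Agent.ChevalleyStructure.E6Min.Adjoint
open Cfsg.Agent.H13.Co3 (CB)

/-- **No configuration in `E₆(q)`, `p ≥ 5`.** -/
theorem no_e6_five {K : Type} [Field K] [Fintype K] (p : ℕ) [Fact p.Prime] [CharP K p] (hp2 : p ≠ 2) (hp3 : p ≠ 3)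
    {G : Type u} [Group G] (e : G ≃* ↥(chevE6.group K)) {P N0 : Subgroup G} {z s : G}
    {ψ : ↥(normalizer (P : Set G)) →* Equiv.Perm (Fin 6)} (C : CB P N0 z s ψ) : False := by
  refine kill5 p hp2 hp3 (S := ⊤)
    (((e.symm : ↥(chevE6.group K) →* G).comp (ad K)).comp (⊤ : Subgroup ↥(Zgrp K)).subtype) ?_ ?_ C
  · intro y
    obtain ⟨g, hg⟩ := ad_surjective (F := K) (e y)
    refine ⟨⟨g, trivial⟩, ?_⟩
    show e.symm (ad K g) = y
    rw [hg, e.symm_apply_apply]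
  · intro g hg
    exact e.symm.injective (by rw [map_one]; exact hg)

end Cfsg.Agent.H129.Co3
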