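import Cfsg.Agent.H512.DFive.Cent
import Cfsg.Agent.H512.DFive.Conj

/-!
# S1920: the centralizer of an involution of type `D₅T₁` acts faithfully on the 16-dimensional part (helper129)

* `core_faith` : an isometry commuting with `z0` and trivial on the 16-dimensional part is trivial;
* `faith` : the same for an involution `z` of `Zgrp F` with `rank (z - 1) = 16`.
-/

set_option autoImplicit false

namespace Cfsg.Agent.H129.Co3

open Cfsg Cfsg.Lie Matrix
open Cfsg.Agent.ChevalleyStructure.E6Min Cfsg.Agent.ChevalleyStructure.E6Min.Tables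
  Cfsg.Agent.ChevalleyStructure.E6Min.Basic Cfsg.Agent.ChevalleyStructure.E6Min.Forms
  Cfsg.Agent.ChevalleyStructure.E6Min.Inv Cfsg.Agent.ChevalleyStructure.E6Min.Elim
  Cfsg.Agent.H512.DFive

variable {F : Type*} [Field F]

theorem tab_xy : (allLt 27 fun k => !(relN 0 k == 2) ||
    !(allLt 27 fun x => allLt 27 fun y => !((relN 0 x == 1) && (relN 0 y == 1) && (relN x y == 2) && (thN x y == k)))) =
      true := by
  decide +kernel

theorem exists_xy {k : I27} (hk : ty k = 2) : ∃ x y : I27, ty x = 1 ∧ ty y = 1 ∧ rel x y = 2 ∧ th x y = k := by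
  have h1 := allLt_spec tab_xy (code k) (code_lt k)
  rw [Bool.or_eq_true] at h1
  have h2 := h1.resolve_left (by
    have : relN 0 (code k) = 2 := hk
    simp [this])
  obtain ⟨x, hx, h3⟩ := not_allLt' h2
  obtain ⟨y, hy, h4⟩ := not_allLt' (p := fun y => !((relN 0 x == 1) && (relN 0 y == 1) && (relN x y == 2) &&
    (thN x y == code k))) (by rw [h3]; rfl)
  simp only [Bool.not_eq_false', Bool.and_eq_true, beq_iff_eq] at h4
  obtain ⟨⟨⟨a, b⟩, c⟩, d⟩ := h4
  refine ⟨dec x, dec y, ?_, ?_, ?_, ?_⟩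
  · unfold ty; rw [code_dec hx]; exact a
  · unfold ty; rw [code_dec hy]; exact b
  · unfold rel; rw [code_dec hx, code_dec hy]; exact c
  · unfold th; rw [code_dec hx, code_dec hy, d, dec_code]

theorem core_faith (h2 : (2 : F) ≠ 0) {g : GL I27 F} (hg : g ∈ E6univ F) (hz : g * z0 F = z0 F * g)
    (h16 : ∀ w, p16 w = w → (g : Matrix I27 I27 F) *ᵥ w = w) : g = 1 := by
  obtain ⟨a, ha, hae, hten, hform⟩ := cent_act h2 hg hz
  have h10 : ∀ w, p10 w = w → (g : Matrix I27 I27 F) *ᵥ w = w := by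
    intro w hw
    obtain ⟨u, hu⟩ : ∃ u, u = (g : Matrix I27 I27 F) *ᵥ w - w := ⟨_, rfl⟩
    have hu10 : p10 u = u := by
      rw [hu, p10_sub, hten w hw, hw]
    have h3 : ∀ k : I27, ty k = 2 → u k = 0 := by
      intro k hk
      obtain ⟨x, y, hx, hy, hxy, hth⟩ := exists_xy hk
      have ex : p16 (e F x) = e F x := by rw [p16_e, if_pos hx]
      have ey : p16 (e F y) = e F y := by rw [p16_e, if_pos hy]
      have h4 : T3 (e F x) ((g : Matrix I27 I27 F) *ᵥ w) (e F y) = T3 (e F x) w (e F y) := by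
        have h5 := T3_inv hg (e F x) w (e F y)
        rwa [h16 _ ex, h16 _ ey] at h5
      rw [T3_basis hxy, T3_basis hxy, hth] at h4
      have h6 := mul_left_cancel₀ (tsN_ne_zero (F := F) _) h4
      rw [hu, Pi.sub_apply, h6, sub_self]
    have h4 : u = 0 := by
      funext k
      by_cases hk : ty k = 2
      · exact h3 k hk
      · rw [← hu10]
        unfold p10
        rw [if_neg hk]
        rfl
    rw [hu] at h4
    exact sub_eq_zero.1 h4
  rcases cent_ker h2 hg hz h10 with h | h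
  · exact h
  · exfalso
    have t1 : ty (dec 1) = 1 ∨ ty (dec 2) = 1 ∨ ty (dec 3) = 1 := by decide +kernel
    obtain ⟨x, hx⟩ : ∃ x, ty x = 1 := by
      rcases t1 with h | h | h
      · exact ⟨_, h⟩
      · exact ⟨_, h⟩
      · exact ⟨_, h⟩
    have ex : p16 (e F x) = e F x := by rw [p16_e, if_pos hx]
    have h3 := h16 _ ex
    rw [h, z0_mulVec, ex, sub_eq_self, smul_eq_zero] at h3
    rcases h3 with h3 | h3
    · exact h2 h3
    · have h4 := congrFun h3 x
      rw [e_apply, if_pos rfl] at h4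
      exact one_ne_zero h4

/-- **Faithfulness on the 16-dimensional part.** -/
theorem faith {F : Type} [Field F] [Fintype F] (ho : Odd (Fintype.card F)) (h2 : (2 : F) ≠ 0) {z g : Zgrp F}
    (hzz : z * z = 1) (hrk : (((z : GL I27 F) : Matrix I27 I27 F) - 1).rank = 16) (hgz : g * z = z * g)
    (h : ∀ v : I27 → F, ((z : GL I27 F) : Matrix I27 I27 F) *ᵥ v = -v →
      ((g : GL I27 F) : Matrix I27 I27 F) *ᵥ v = v) : g = 1 := by
  obtain ⟨x, hx⟩ := conj_z0 ho h2 hzz hrk
  have h1 : ((x * g * x⁻¹ : Zgrp F) : GL I27 F) = 1 := by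
    refine core_faith h2 (Zgrp_le F (x * g * x⁻¹).2) ?_ ?_
    · rw [← hx, ← Subgroup.coe_mul, ← Subgroup.coe_mul]
      congr 1
      calc x * g * x⁻¹ * (x * z * x⁻¹) = x * (g * z) * x⁻¹ := by group
        _ = x * z * x⁻¹ * (x * g * x⁻¹) := by rw [hgz]; group
    · intro w hw
      have h3 : ((z0 F : GL I27 F) : Matrix I27 I27 F) *ᵥ w = -w := by
        rw [z0_mulVec, hw, two_smul]; abel
      have h4 : ((z : GL I27 F) : Matrix I27 I27 F) *ᵥ ((((x⁻¹ : Zgrp F) : GL I27 F) : Matrix I27 I27 F) *ᵥ w) =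
          -((((x⁻¹ : Zgrp F) : GL I27 F) : Matrix I27 I27 F) *ᵥ w) := by
        rw [Matrix.mulVec_mulVec, ← Units.val_mul, ← Subgroup.coe_mul]
        have h5 : z * x⁻¹ = x⁻¹ * (x * z * x⁻¹) := by group
        rw [h5, Subgroup.coe_mul, Units.val_mul, hx, ← Matrix.mulVec_mulVec, h3, Matrix.mulVec_neg]
      have h6 := h _ h4
      rw [Subgroup.coe_mul, Subgroup.coe_mul, Units.val_mul, Units.val_mul, ← Matrix.mulVec_mulVec,
        ← Matrix.mulVec_mulVec, h6, Matrix.mulVec_mulVec, ← Units.val_mul, ← Subgroup.coe_mul, mul_inv_cancel,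
        Subgroup.coe_one, Units.val_one, Matrix.one_mulVec]
  have h2 : x * g * x⁻¹ = 1 := Subtype.ext h1
  have h3 : g = x⁻¹ * (x * g * x⁻¹) * x := by group
  rw [h3, h2]; group

end Cfsg.Agent.H129.Co3
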